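import Groth.Agent.L00.ProperNorm
import Mathlib.AlgebraicGeometry.AffineScheme
import Mathlib.AlgebraicGeometry.Morphisms.Flat
import Mathlib.FieldTheory.IsAlgClosed.Basic
import Mathlib.RingTheory.Artinian.Module

/-!
# Functions on a proper flat curve over a discrete valuation ring with reduced connected special fibre
-/

set_option autoImplicit false
set_option linter.style.haveILetI false

universe u

open CategoryTheory CategoryTheory.Limits AlgebraicGeometry TopologicalSpace Opposite
open Groth.L00.ProperNorm (glob finite_toGlobal)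

noncomputable section

namespace Groth.L05.ModelGeneric

theorem idempotent_trivial {Z : Scheme.{u}} [ConnectedSpace Z] {e : Γ(Z, ⊤)} (he : e * e = e) :
    e = 0 ∨ e = 1 := by
  have hmul : e * (1 - e) = 0 := by rw [mul_sub, mul_one, he, sub_self]
  have hloc : ∀ z : Z, IsUnit (Z.presheaf.germ ⊤ z trivial e) ∨ IsUnit (Z.presheaf.germ ⊤ z trivial (1 - e)) :=
    fun z => IsLocalRing.isUnit_or_isUnit_of_isUnit_add (by rw [← map_add, add_sub_cancel, map_one]; exact isUnit_one)
  have hnot : ∀ z : Z, IsUnit (Z.presheaf.germ ⊤ z trivial e) → Z.presheaf.germ ⊤ z trivial (1 - e) = 0 :=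
    fun z h => h.mul_right_eq_zero.mp (by rw [← map_mul, hmul, map_zero])
  have hc : IsClopen (Z.basicOpen e : Set Z) := by
    refine ⟨?_, (Z.basicOpen e).2⟩
    have : (Z.basicOpen e : Set Z) = (Z.basicOpen (1 - e) : Set Z)ᶜ := by
      ext z
      simp only [Set.mem_compl_iff, SetLike.mem_coe, Z.mem_basicOpen (U := ⊤) _ z trivial]
      exact ⟨fun h h' => not_isUnit_zero (hnot z h ▸ h'), (hloc z).resolve_right⟩
    rw [this, isClosed_compl_iff]
    exact (Z.basicOpen (1 - e)).2
  rcases isClopen_iff.1 hc with h | h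
  · left
    refine Z.IsSheaf.section_ext fun x _ => ⟨⊤, le_rfl, trivial, ?_⟩
    have hu : IsUnit (1 - e) := by
      refine Z.toRingedSpace.isUnit_of_isUnit_germ ⊤ _ fun z _ => ?_
      refine (hloc z).resolve_left fun hz => ?_
      have : z ∈ (Z.basicOpen e : Set Z) := (Z.mem_basicOpen (U := ⊤) _ z trivial).mpr hz
      rw [h] at this
      exact this
    rw [hu.mul_left_eq_zero.mp hmul]
  · right
    have hu : IsUnit e := by
      refine Z.toRingedSpace.isUnit_of_isUnit_germ ⊤ _ fun z _ => ?_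
      refine (Z.mem_basicOpen (U := ⊤) _ z trivial).mp ?_
      rw [← SetLike.mem_coe, h]
      trivial
    exact (sub_eq_zero.mp (hu.mul_right_eq_zero.mp hmul)).symm

/-- A connected reduced proper scheme over an algebraically closed field has only constant functions. -/
theorem surjective_glob_field {κ : Type u} [Field κ] [IsAlgClosed κ] {Z : Scheme.{u}}
    (g : Z ⟶ Spec (CommRingCat.of κ)) [IsProper g] [IsReduced Z] [ConnectedSpace Z] :
    Function.Surjective (glob g) := by
  letI := (glob g).toAlgebra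
  haveI : Module.Finite κ Γ(Z, ⊤) := RingHom.finite_algebraMap.mp (finite_toGlobal g)
  haveI : IsArtinianRing Γ(Z, ⊤) := IsArtinianRing.of_finite κ Γ(Z, ⊤)
  haveI : Nontrivial Γ(Z, ⊤) := by
    by_contra hn
    rw [not_nontrivial_iff_subsingleton] at hn
    obtain ⟨z⟩ := ‹ConnectedSpace Z›.toNonempty
    exact zero_ne_one (α := Z.presheaf.stalk z)
      (by rw [← map_zero (Z.presheaf.germ ⊤ z trivial).hom, ← map_one (Z.presheaf.germ ⊤ z trivial).hom]
          exact congrArg _ (Subsingleton.elim _ _))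
  have hF : IsField Γ(Z, ⊤) := by
    refine ⟨exists_pair_ne _, mul_comm, fun {a} ha => ?_⟩
    obtain ⟨n, c, hc⟩ := IsArtinian.exists_pow_succ_smul_dvd a (1 : Γ(Z, ⊤))
    simp only [smul_eq_mul, mul_one] at hc
    have h1 : a ^ n * (1 - a * c) = 0 := by rw [Nat.succ_eq_add_one, pow_succ] at hc; linear_combination -hc
    rcases idempotent_trivial (e := a ^ n * c ^ n) (by
      have h : ∀ m, a ^ n * (a * c) ^ m = a ^ n := fun m => by
        induction m with
        | zero => simp
        | succ m ih => rw [pow_succ, ← mul_assoc, ih]; linear_combination -h1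
      have h2 := h n
      rw [mul_pow] at h2
      linear_combination c ^ n * h2) with h | h
    · exfalso
      have h' : ∀ m, a ^ n * (a * c) ^ m = a ^ n := fun m => by
        induction m with
        | zero => simp
        | succ m ih => rw [pow_succ, ← mul_assoc, ih]; linear_combination -h1
      have : a ^ n = 0 := by rw [← h' n, mul_pow, h, mul_zero]
      exact ha (IsReduced.eq_zero a ⟨n, this⟩)
    · rcases Nat.eq_zero_or_pos n with hn | hn
      · subst hn
        exact ⟨c, by linear_combination -h1⟩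
      · refine ⟨a ^ (n - 1) * c ^ n, ?_⟩
        rw [← mul_assoc, ← pow_succ', Nat.sub_add_cancel hn]
        exact h
  haveI : IsDomain Γ(Z, ⊤) := hF.isDomain
  exact (IsAlgClosed.algebraMap_bijective_of_isIntegral (k := κ) (K := Γ(Z, ⊤))).2

section

variable {R : Type u} [CommRing R] {X : Scheme.{u}} (f : X ⟶ Spec (CommRingCat.of R))

/-- The structure map on sections. -/
def rr (U : X.Opens) : R →+* Γ(X, U) :=
  (X.presheaf.map (homOfLE le_top).op).hom.comp (glob f)

theorem res_res {U V W : X.Opens} (h₁ : V ≤ U) (h₂ : W ≤ V) (x : Γ(X, U)) :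
    X.presheaf.map (homOfLE h₂).op (X.presheaf.map (homOfLE h₁).op x) =
      X.presheaf.map (homOfLE (h₂.trans h₁)).op x := by
  rw [← ConcreteCategory.comp_apply, ← X.presheaf.map_comp]
  rfl

theorem map_rr {U V : X.Opens} (h : V ≤ U) (r : R) :
    X.presheaf.map (homOfLE h).op (rr f U r) = rr f V r :=
  res_res le_top h (glob f r)

theorem rr_top (r : R) : rr f ⊤ r = glob f r := by
  show X.presheaf.map (homOfLE le_top).op (glob f r) = _
  rw [show (homOfLE (le_top : (⊤ : X.Opens) ≤ ⊤)).op = 𝟙 (op ⊤) from rfl, X.presheaf.map_id]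
  rfl

theorem fromSpec_structure {U : X.Opens} (hU : IsAffineOpen U) :
    hU.fromSpec ≫ f = Spec.map (CommRingCat.ofHom (rr f U)) := by
  have e : f = X.toSpecΓ ≫ Spec.map (CommRingCat.ofHom (glob f)) := by
    show f = X.toSpecΓ ≫ Spec.map ((Scheme.ΓSpecIso (CommRingCat.of R)).inv ≫ f.appTop)
    simp only [Spec.map_comp, ← Category.assoc, ← Scheme.toSpecΓ_naturality]
    simp only [Category.assoc]
    rw [← SpecMap_ΓSpecIso_hom, ← Spec.map_comp, Iso.inv_hom_id, Spec.map_id]
    exact (Category.comp_id f).symm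
  conv_lhs => rw [e, ← Category.assoc, hU.fromSpec_toSpecΓ, ← Spec.map_comp]
  rfl

theorem flat_rr [Flat f] {U : X.Opens} (hU : IsAffineOpen U) : (rr f U).Flat := by
  have h : Flat (Spec.map (CommRingCat.ofHom (rr f U))) := by
    rw [← fromSpec_structure f hU]; infer_instance
  exact HasRingHomProperty.Spec_iff.mp h

variable [IsDomain R] [Flat f]

theorem rr_mul_injective (π : R) (hπ : π ≠ 0) {U : X.Opens} (hU : IsAffineOpen U) {x y : Γ(X, U)}
    (h : rr f U π * x = rr f U π * y) : x = y := by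
  letI := (rr f U).toAlgebra
  haveI : Module.Flat R Γ(X, U) := flat_rr f hU
  have hsm : Function.Injective fun z : Γ(X, U) => π • z := by
    have := Module.Flat.lTensor_preserves_injective_linearMap (M := Γ(X, U)) (LinearMap.mulLeft R π)
      (mul_right_injective₀ hπ)
    intro a b hab
    refine (TensorProduct.rid R Γ(X, U)).symm.injective (this ?_)
    simp only [TensorProduct.rid_symm_apply, LinearMap.lTensor_tmul, LinearMap.mulLeft_apply, mul_one]
    rw [← mul_one π, ← smul_eq_mul, TensorProduct.tmul_smul, TensorProduct.tmul_smul]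
    exact congrArg (· ⊗ₜ[R] (1 : R)) hab
  exact hsm (show π • x = π • y by rw [Algebra.smul_def, Algebra.smul_def]; exact h)

end

section

variable (R : Type u) [CommRing R] [IsDomain R] [IsLocalRing R] (π : R) (hπ : π ≠ 0)
  (hm : IsLocalRing.maximalIdeal R = Ideal.span {π})
  {X : Scheme.{u}} (f : X ⟶ Spec (CommRingCat.of R))
  {Xs : Scheme.{u}} (gs : Xs ⟶ X) (fs : Xs ⟶ Spec (CommRingCat.of (IsLocalRing.ResidueField R)))
  (hs : IsPullback gs fs f (Spec.map (CommRingCat.ofHom (IsLocalRing.residue R))))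

include hm hs in
/-- Reduction modulo the uniformizer factors through the special fibre. -/
theorem exists_lift {U : X.Opens} (hU : IsAffineOpen U) :
    ∃ t : Spec (CommRingCat.of (Γ(X, U) ⧸ Ideal.span {rr f U π})) ⟶ Xs,
      t ≫ gs = Spec.map (CommRingCat.ofHom (Ideal.Quotient.mk (Ideal.span {rr f U π}))) ≫ hU.fromSpec := by
  let φ : IsLocalRing.ResidueField R →+* Γ(X, U) ⧸ Ideal.span {rr f U π} :=
    Ideal.Quotient.lift (IsLocalRing.maximalIdeal R)
      ((Ideal.Quotient.mk (Ideal.span {rr f U π})).comp (rr f U)) fun a ha => by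
      rw [hm, Ideal.mem_span_singleton'] at ha
      obtain ⟨b, rfl⟩ := ha
      rw [RingHom.comp_apply, Ideal.Quotient.eq_zero_iff_mem, map_mul]
      exact Ideal.mem_span_singleton'.mpr ⟨_, rfl⟩
  refine ⟨hs.lift (Spec.map (CommRingCat.ofHom (Ideal.Quotient.mk (Ideal.span {rr f U π}))) ≫ hU.fromSpec)
    (Spec.map (CommRingCat.ofHom φ)) ?_, hs.lift_fst _ _ _⟩
  rw [Category.assoc, fromSpec_structure f hU, ← Spec.map_comp, ← Spec.map_comp]
  rfl

include hm hs in
theorem mem_span_of_app_eq_zero {U : X.Opens} (hU : IsAffineOpen U) (x : Γ(X, U))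
    (hx : gs.app U x = 0) : x ∈ Ideal.span {rr f U π} := by
  obtain ⟨t, ht⟩ := exists_lift R π hm f gs fs hs hU
  let q := CommRingCat.ofHom (Ideal.Quotient.mk (Ideal.span {rr f U π}))
  have htop : (⊤ : (Spec (CommRingCat.of (Γ(X, U) ⧸ Ideal.span {rr f U π}))).Opens) ≤
      (Spec.map q ≫ hU.fromSpec) ⁻¹ᵁ U := fun z _ => by
    show hU.fromSpec (Spec.map q z) ∈ U
    have : hU.fromSpec (Spec.map q z) ∈ Set.range hU.fromSpec := ⟨_, rfl⟩
    rwa [hU.range_fromSpec] at this
  have hA : (Spec.map q ≫ hU.fromSpec).appLE U ⊤ htop =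
      q ≫ (Scheme.ΓSpecIso (CommRingCat.of (Γ(X, U) ⧸ Ideal.span {rr f U π}))).inv := by
    rw [Scheme.Hom.comp_appLE, hU.fromSpec_app_self, Category.assoc, Scheme.Hom.map_appLE,
      show (Spec.map q).appLE ⊤ ⊤ _ = (Spec.map q).appTop from (Scheme.Hom.app_eq_appLE (Spec.map q)).symm]
    exact (Scheme.ΓSpecIso_inv_naturality q).symm
  have h0 : (t ≫ gs).appLE U ⊤ (by rw [ht]; exact htop) x = 0 := by
    rw [Scheme.Hom.comp_appLE, ConcreteCategory.comp_apply, hx, map_zero]
  rw [← Ideal.Quotient.eq_zero_iff_mem]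
  have h2 : (Scheme.ΓSpecIso (CommRingCat.of (Γ(X, U) ⧸ Ideal.span {rr f U π}))).inv (q x) = 0 := by
    rw [← ConcreteCategory.comp_apply, ← hA]
    have hg : ∀ (g : Spec (CommRingCat.of (Γ(X, U) ⧸ Ideal.span {rr f U π})) ⟶ X) (_ : g = t ≫ gs) (e),
        g.appLE U ⊤ e x = 0 := by
      rintro _ rfl e
      exact h0
    exact hg _ ht.symm htop
  have h3 := congrArg (Scheme.ΓSpecIso (CommRingCat.of (Γ(X, U) ⧸ Ideal.span {rr f U π}))).hom h2
  rw [map_zero, ← ConcreteCategory.comp_apply, Iso.inv_hom_id] at h3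
  exact h3

include hπ hm hs in
theorem exists_eq_mul_of_app_eq_zero [Flat f] (x : Γ(X, ⊤)) (hx : gs.appTop x = 0) :
    ∃ y : Γ(X, ⊤), rr f ⊤ π * y = x := by
  have hloc : ∀ U : X.affineOpens, ∃ y : Γ(X, U.1),
      rr f U.1 π * y = X.presheaf.map (homOfLE le_top).op x := fun U => by
    have h1 : gs.app U.1 (X.presheaf.map (homOfLE le_top).op x) = 0 := by
      rw [← ConcreteCategory.comp_apply, gs.naturality, ConcreteCategory.comp_apply]
      rw [show gs.app ⊤ x = 0 from hx, map_zero]
    obtain ⟨y, hy⟩ := Ideal.mem_span_singleton'.mp (mem_span_of_app_eq_zero R π hm f gs fs hs U.2 _ h1)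
    exact ⟨y, (mul_comm _ _).trans hy⟩
  choose y hy using hloc
  have hcompat : TopCat.Presheaf.IsCompatible X.presheaf (fun U : X.affineOpens => U.1) y := by
    intro U V
    refine X.IsSheaf.section_ext fun z hz => ?_
    obtain ⟨W, hW, hzW, hWle⟩ := exists_isAffineOpen_mem_and_subset (X := X) (x := z) (U := U.1 ⊓ V.1) hz
    refine ⟨W, (hWle : W ≤ U.1 ⊓ V.1), hzW, rr_mul_injective f π hπ hW ?_⟩
    have hres : ∀ (T : X.affineOpens) (hT : W ≤ T.1),
        rr f W π * X.presheaf.map (homOfLE hT).op (y T) = X.presheaf.map (homOfLE le_top).op x := fun T hT => by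
      rw [← map_rr f hT, ← map_mul, hy, res_res]
    have hU := hres U (hWle.trans inf_le_left)
    have hV := hres V (hWle.trans inf_le_right)
    erw [res_res (X := X) inf_le_left hWle (y U), res_res (X := X) inf_le_right hWle (y V)]
    exact hU.trans hV.symm
  obtain ⟨(s : Γ(X, ⊤)), hsU, -⟩ := X.sheaf.existsUnique_gluing' (fun U : X.affineOpens => U.1) ⊤
    (fun U => homOfLE le_top) (by rw [iSup_affineOpens_eq_top]) y hcompat
  refine ⟨s, X.IsSheaf.section_ext fun z hz => ?_⟩
  obtain ⟨W, hW, hzW, -⟩ := exists_isAffineOpen_mem_and_subset (X := X) (x := z) (U := ⊤) hz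
  refine ⟨W, le_top, hzW, ?_⟩
  show X.presheaf.map (homOfLE le_top).op (rr f ⊤ π * (s : Γ(X, ⊤))) = X.presheaf.map (homOfLE le_top).op x
  rw [map_mul, map_rr f]
  erw [hsU ⟨W, hW⟩]
  exact hy ⟨W, hW⟩

include hπ hm hs in
/-- The functions on the model are the base ring. -/
theorem surjective_glob [IsNoetherianRing R] [IsProper f] [Flat f] [IsAlgClosed (IsLocalRing.ResidueField R)]
    [IsReduced Xs] [ConnectedSpace Xs] : Function.Surjective (glob f) := by
  haveI : IsProper fs := MorphismProperty.of_isPullback (P := @IsProper) hs inferInstance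
  letI := (glob f).toAlgebra
  haveI : Module.Finite R Γ(X, ⊤) := RingHom.finite_algebraMap.mp (finite_toGlobal f)
  let M : Submodule R Γ(X, ⊤) := LinearMap.range (Algebra.linearMap R Γ(X, ⊤))
  have hcomm : ∀ r, gs.appTop (glob f r) = glob fs (IsLocalRing.residue R r) := fun r => by
    have h1 := ConcreteCategory.congr_hom (congrArg (fun t => (Scheme.ΓSpecIso (CommRingCat.of R)).inv ≫ Scheme.Hom.appTop t) hs.w) r
    simp only [Scheme.Hom.comp_appTop, ← Category.assoc, ← Scheme.ΓSpecIso_inv_naturality] at h1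
    exact h1
  have hle : (⊤ : Submodule R Γ(X, ⊤)) ≤ M ⊔ IsLocalRing.maximalIdeal R • ⊤ := fun x _ => by
    obtain ⟨c, hc⟩ := surjective_glob_field fs (gs.appTop x)
    obtain ⟨r, rfl⟩ := IsLocalRing.residue_surjective c
    obtain ⟨y, hy⟩ := exists_eq_mul_of_app_eq_zero R π hπ hm f gs fs hs (x - glob f r)
      (by rw [map_sub, hcomm, hc, sub_self])
    rw [rr_top] at hy
    refine Submodule.mem_sup.mpr ⟨glob f r, ⟨r, rfl⟩, π • y,
      Submodule.smul_mem_smul (hm ▸ Ideal.mem_span_singleton_self π) trivial, ?_⟩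
    rw [Algebra.smul_def]
    show glob f r + glob f π * y = x
    rw [hy]; ring
  have hM : ⊤ ≤ M := Submodule.le_of_le_smul_of_le_jacobson_bot Module.Finite.fg_top
    (IsLocalRing.maximalIdeal_le_jacobson _) hle
  exact fun x => hM (Submodule.mem_top (x := x))

end

end Groth.L05.ModelGeneric
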