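import Groth.Agent.L05.ModelGeneric.Stalk
import Mathlib.RingTheory.PrincipalIdealDomainOfPrime
import Mathlib.RingTheory.UniqueFactorizationDomain.Multiplicity
import Mathlib.RingTheory.Polynomial.UniqueFactorization
import Mathlib.RingTheory.Algebraic.Basic

/-!
# Base change of an unramified valuation ring along an extension of the base valuation ring
-/

set_option autoImplicit false
set_option linter.style.haveILetI false

universe u

open scoped TensorProduct
open IsLocalRing

noncomputable section

namespace Groth.L05.ModelGeneric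

variable (R R' : Type u) [CommRing R] [IsDomain R] [IsDiscreteValuationRing R]
  [CommRing R'] [IsDomain R'] [IsDiscreteValuationRing R'] [Algebra R R'] [IsLocalHom (algebraMap R R')]
  [Algebra (FractionRing R) (FractionRing R')] [IsScalarTower R (FractionRing R) (FractionRing R')]

omit [IsLocalHom (algebraMap R R')] in
theorem isAlgebraic_of_finite [Module.Finite (FractionRing R) (FractionRing R')] (x : R') : IsAlgebraic R x := by
  have h1 : IsAlgebraic R (algebraMap R' (FractionRing R') x) :=
    (IsFractionRing.isAlgebraic_iff R (FractionRing R) (FractionRing R')).mpr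
      (Algebra.IsAlgebraic.isAlgebraic (R := FractionRing R) _)
  exact (isAlgebraic_algebraMap_iff (IsFractionRing.injective R' (FractionRing R'))).mp h1

/-- Over an algebraically closed residue field an algebraic extension is residually trivial. -/
theorem residue_surjective_of_algebraic [IsAlgClosed (ResidueField R)]
    [Module.Finite (FractionRing R) (FractionRing R')] :
    Function.Surjective (ResidueField.map (algebraMap R R')) := by
  intro y
  obtain ⟨x, rfl⟩ := residue_surjective y
  obtain ⟨π, hπ⟩ := IsDiscreteValuationRing.exists_irreducible R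
  have hinj : Function.Injective (algebraMap R R') := by
    intro a b h
    have h1 := congrArg (algebraMap R' (FractionRing R')) h
    rw [← IsScalarTower.algebraMap_apply, ← IsScalarTower.algebraMap_apply,
      IsScalarTower.algebraMap_apply R (FractionRing R) (FractionRing R'),
      IsScalarTower.algebraMap_apply R (FractionRing R) (FractionRing R')] at h1
    exact IsFractionRing.injective R (FractionRing R) ((algebraMap (FractionRing R) (FractionRing R')).injective h1)
  obtain ⟨P, hP0, hPx⟩ := isAlgebraic_of_finite R R' x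
  obtain ⟨n, Q, hQ, rfl⟩ := WfDvdMonoid.max_power_factor' hP0
    (x := Polynomial.C π) (fun h => hπ.not_isUnit (Polynomial.isUnit_C.mp h))
  rw [map_mul, map_pow, Polynomial.aeval_C] at hPx
  have hQx : Polynomial.aeval x Q = 0 := (mul_eq_zero.mp hPx).resolve_left
    (pow_ne_zero _ ((map_ne_zero_iff _ hinj).mpr hπ.ne_zero))
  have hQ0 : Q.map (residue R) ≠ 0 := fun h => hQ ((Polynomial.C_dvd_iff_dvd_coeff _ _).mpr fun i => by
    have h1 := congrArg (fun T => Polynomial.coeff T i) h
    simp only [Polynomial.coeff_map, Polynomial.coeff_zero, residue_eq_zero_iff, hπ.maximalIdeal_eq] at h1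
    exact Ideal.mem_span_singleton.mp h1)
  letI : Algebra (ResidueField R) (ResidueField R') := (ResidueField.map (algebraMap R R')).toAlgebra
  have hint : IsIntegral (ResidueField R) (residue R' x) := by
    refine IsAlgebraic.isIntegral ⟨Q.map (residue R), hQ0, ?_⟩
    rw [Polynomial.aeval_def, Polynomial.eval₂_map,
      show (algebraMap (ResidueField R) (ResidueField R')).comp (residue R) = (residue R').comp (algebraMap R R') from rfl,
      ← Polynomial.hom_eval₂, ← Polynomial.aeval_def, hQx, map_zero]
  haveI : Algebra.IsIntegral (ResidueField R) (Algebra.adjoin (ResidueField R) ({residue R' x} : Set (ResidueField R'))) :=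
    Algebra.IsIntegral.adjoin (S := {residue R' x}) (by simpa using hint)
  obtain ⟨c, hc⟩ := (IsAlgClosed.algebraMap_bijective_of_isIntegral (k := ResidueField R)
    (K := Algebra.adjoin (ResidueField R) ({residue R' x} : Set (ResidueField R')))).2 ⟨_, Algebra.subset_adjoin rfl⟩
  exact ⟨c, congrArg Subtype.val hc⟩

variable (B : Type u) [CommRing B] [IsDomain B] [IsDiscreteValuationRing B] [Algebra R B]
  [IsLocalHom (algebraMap R B)]

theorem isDiscreteValuationRing_tensor [IsAlgClosed (ResidueField R)]
    [Module.Finite (FractionRing R) (FractionRing R')] {π : R} (hπ : Irreducible π)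
    (hmB : (maximalIdeal R).map (algebraMap R B) = maximalIdeal B) (hne : algebraMap R B π ≠ 0)
    (hdom : IsDomain (B ⊗[R] FractionRing R')) :
    ∃ _ : IsDomain (B ⊗[R] R'), IsDiscreteValuationRing (B ⊗[R] R') := by
  let K' := FractionRing R'
  haveI := hdom
  haveI : Algebra.IsAlgebraic (FractionRing R) K' := Algebra.IsAlgebraic.of_finite _ _
  have hinjB : Function.Injective (algebraMap R B) := by
    refine (injective_iff_map_eq_zero _).mpr fun r hr => ?_
    by_contra hr0
    obtain ⟨n, u, rfl⟩ := IsDiscreteValuationRing.eq_unit_mul_pow_irreducible hr0 hπ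
    rw [map_mul, map_pow] at hr
    exact (mul_ne_zero (u.isUnit.map (algebraMap R B)).ne_zero (pow_ne_zero _ hne)) hr
  haveI : Module.IsTorsionFree R B :=
    Module.isTorsionFree_iff_algebraMap_injective.mpr hinjB
  haveI : Module.Flat R B := inferInstance
  have hπm : π ∈ maximalIdeal R := hπ.maximalIdeal_eq ▸ Ideal.mem_span_singleton_self π
  have hπB : algebraMap R B π ∈ maximalIdeal B := hmB ▸ Ideal.mem_map_of_mem _ hπm
  let j : B ⊗[R] R' →ₐ[R] B ⊗[R] K' :=
    Algebra.TensorProduct.map (AlgHom.id R B) (IsScalarTower.toAlgHom R R' K')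
  have hj : Function.Injective j := by
    have e : j.toLinearMap = LinearMap.lTensor B (IsScalarTower.toAlgHom R R' K').toLinearMap :=
      TensorProduct.ext' fun b x => by simp [j]
    have := Module.Flat.lTensor_preserves_injective_linearMap (M := B)
      (IsScalarTower.toAlgHom R R' K').toLinearMap (IsFractionRing.injective R' K')
    rw [← e] at this
    exact this
  haveI : IsDomain (B ⊗[R] R') := hj.isDomain j.toRingHom
  refine ⟨inferInstance, ?_⟩
  have hF := isField_tensor R (L := K') hπ hπB hne hdom
  obtain ⟨ϖ, hϖ⟩ := IsDiscreteValuationRing.exists_irreducible R'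
  have hπ'ne : algebraMap R R' π ≠ 0 := fun h => by
    have h1 := congrArg (algebraMap R' K') h
    rw [map_zero, ← IsScalarTower.algebraMap_apply, IsScalarTower.algebraMap_apply R (FractionRing R) K'] at h1
    exact hπ.ne_zero (IsFractionRing.injective R (FractionRing R)
      (((algebraMap (FractionRing R) K').injective (h1.trans (map_zero _).symm)).trans (map_zero _).symm))
  obtain ⟨e₀, u₀, hu₀⟩ := IsDiscreteValuationRing.eq_unit_mul_pow_irreducible hπ'ne hϖ
  have he₀ : e₀ ≠ 0 := fun h => by
    subst h
    rw [pow_zero, mul_one] at hu₀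
    exact hπ.not_isUnit (isUnit_of_map_unit (algebraMap R R') π (hu₀ ▸ u₀.isUnit))
  let iR : R' →ₐ[R] B ⊗[R] R' := Algebra.TensorProduct.includeRight
  let q := iR ϖ
  have hπq : algebraMap R (B ⊗[R] R') π = iR u₀ * q ^ e₀ := by
    rw [← iR.commutes π, hu₀, map_mul, map_pow]
  -- the residue map
  obtain ⟨σ, hσ⟩ := (residue_surjective_of_algebraic R R').hasRightInverse
  let rk := RingEquiv.ofBijective (ResidueField.map (algebraMap R R'))
    ⟨(ResidueField.map (algebraMap R R')).injective, residue_surjective_of_algebraic R R'⟩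
  let ρ' : R' →+* ResidueField B :=
    (ResidueField.map (algebraMap R B)).comp (rk.symm.toRingHom.comp (residue R'))
  have hρ' : ∀ r, ρ' (algebraMap R R' r) = residue B (algebraMap R B r) := fun r => by
    show ResidueField.map (algebraMap R B) (rk.symm (residue R' (algebraMap R R' r))) = _
    rw [show residue R' (algebraMap R R' r) = rk (residue R r) from rfl, rk.symm_apply_apply]
    rfl
  let ρ : B ⊗[R] R' →ₐ[R] ResidueField B := Algebra.TensorProduct.lift (IsScalarTower.toAlgHom R B (ResidueField B))
    { ρ' with commutes' := hρ' } fun _ _ => Commute.all _ _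
  have hqρ : ρ q = 0 := by
    show ρ (1 ⊗ₜ ϖ) = 0
    rw [Algebra.TensorProduct.lift_tmul, map_one, one_mul]
    show ResidueField.map (algebraMap R B) (rk.symm (residue R' ϖ)) = 0
    rw [(residue_eq_zero_iff ϖ).mpr (hϖ.maximalIdeal_eq ▸ Ideal.mem_span_singleton_self ϖ), map_zero, map_zero]
  have hρsurj : Function.Surjective ρ := fun y => by
    obtain ⟨b, rfl⟩ := residue_surjective y
    exact ⟨b ⊗ₜ 1, by rw [Algebra.TensorProduct.lift_tmul, map_one, mul_one]; rfl⟩
  have hdec : ∀ z : B ⊗[R] R', ∃ b : B, z - algebraMap B (B ⊗[R] R') b ∈ Ideal.span {q} := by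
    intro z
    induction z using TensorProduct.induction_on with
    | zero => exact ⟨0, by simp⟩
    | add x y hx hy =>
      obtain ⟨a, ha⟩ := hx
      obtain ⟨b, hb⟩ := hy
      refine ⟨a + b, ?_⟩
      rw [map_add, show x + y - (algebraMap B _ a + algebraMap B _ b) =
        (x - algebraMap B _ a) + (y - algebraMap B _ b) by ring]
      exact add_mem ha hb
    | tmul b x =>
      obtain ⟨r, hr⟩ := residue_surjective_of_algebraic R R' (residue R' x)
      obtain ⟨r, rfl⟩ := residue_surjective r
      have hmem : x - algebraMap R R' r ∈ maximalIdeal R' := by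
        rw [← residue_eq_zero_iff, map_sub, ← hr, ResidueField.map_residue, sub_self]
      obtain ⟨y, hy⟩ := Ideal.mem_span_singleton'.mp (hϖ.maximalIdeal_eq ▸ hmem)
      refine ⟨b * algebraMap R B r, Ideal.mem_span_singleton'.mpr ⟨b ⊗ₜ y, ?_⟩⟩
      show b ⊗ₜ[R] y * ((1 : B) ⊗ₜ[R] ϖ) = b ⊗ₜ x - (b * algebraMap R B r) ⊗ₜ[R] (1 : R')
      rw [Algebra.TensorProduct.tmul_mul_tmul, mul_one, hy, TensorProduct.tmul_sub,
        mul_comm b, ← Algebra.smul_def, TensorProduct.smul_tmul, Algebra.algebraMap_eq_smul_one]
  have hmax : Ideal.span {q} = RingHom.ker ρ := by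
    refine le_antisymm ((Ideal.span_singleton_le_iff_mem _).mpr hqρ) fun z hz => ?_
    obtain ⟨b, hb⟩ := hdec z
    have hb0 : ρ (algebraMap B _ b) = 0 := by
      have h1 : ρ (z - algebraMap B _ b) = 0 := (show Ideal.span {q} ≤ RingHom.ker ρ from
        (Ideal.span_singleton_le_iff_mem _).mpr hqρ) hb
      rw [map_sub, show ρ z = 0 from hz, zero_sub, neg_eq_zero] at h1
      exact h1
    have hbm : b ∈ maximalIdeal B := by
      rw [← residue_eq_zero_iff]
      rw [show algebraMap B (B ⊗[R] R') b = b ⊗ₜ 1 from rfl, Algebra.TensorProduct.lift_tmul, map_one, mul_one] at hb0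
      exact hb0
    rw [← hmB, hπ.maximalIdeal_eq, Ideal.map_span, Set.image_singleton] at hbm
    obtain ⟨b', rfl⟩ := Ideal.mem_span_singleton'.mp hbm
    have h2 : algebraMap B (B ⊗[R] R') (b' * algebraMap R B π) ∈ Ideal.span {q} := by
      rw [map_mul, ← IsScalarTower.algebraMap_apply, hπq]
      exact Ideal.mul_mem_left _ _ (Ideal.mul_mem_left _ _
        (Ideal.pow_mem_of_mem _ (Ideal.mem_span_singleton_self q) _ (Nat.pos_of_ne_zero he₀)))
    simpa using add_mem hb h2
  haveI hqmax : (Ideal.span {q}).IsMaximal := hmax ▸ RingHom.ker_isMaximal_of_surjective ρ hρsurj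
  have hqne : q ≠ 0 := fun h => by
    have h1 : j q = j 0 := congrArg j h
    simp only [q, iR, j, map_zero, Algebra.TensorProduct.includeRight_apply, Algebra.TensorProduct.map_tmul,
      map_one] at h1
    haveI : Module.IsTorsionFree R K' := Module.isTorsionFree_iff_algebraMap_injective.mpr (by
      rw [IsScalarTower.algebraMap_eq R (FractionRing R) K']
      exact (algebraMap (FractionRing R) K').injective.comp (IsFractionRing.injective R (FractionRing R)))
    haveI : Module.Flat R K' := inferInstance
    have h2 : Function.Injective (Algebra.TensorProduct.includeRight : K' →ₐ[R] B ⊗[R] K') :=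
      Algebra.TensorProduct.includeRight_injective hinjB
    exact hϖ.ne_zero (IsFractionRing.injective R' K' ((h2 (h1.trans (map_zero _).symm)).trans (map_zero _).symm))
  -- every element of the generic fibre becomes integral after multiplying by a power of the uniformizer
  have hpow : ∀ w : B ⊗[R] K', ∃ (N : ℕ) (z : B ⊗[R] R'), j z = algebraMap R (B ⊗[R] K') π ^ N * w := by
    intro w
    induction w using TensorProduct.induction_on with
    | zero => exact ⟨0, 0, by simp⟩
    | add x y hx hy =>
      obtain ⟨N, a, ha⟩ := hx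
      obtain ⟨M, b, hb⟩ := hy
      refine ⟨N + M, algebraMap R _ π ^ M * a + algebraMap R _ π ^ N * b, ?_⟩
      rw [map_add, map_mul, map_mul, map_pow, map_pow, AlgHom.commutes, ha, hb]
      ring
    | tmul b c =>
      obtain ⟨⟨a, s, hs⟩, hc⟩ := IsLocalization.surj (nonZeroDivisors R') c
      obtain ⟨m, u, rfl⟩ := IsDiscreteValuationRing.eq_unit_mul_pow_irreducible (nonZeroDivisors.ne_zero hs) hϖ
      refine ⟨m, b ⊗ₜ ((↑u⁻¹ : R') * (u₀ : R') ^ m * ϖ ^ (e₀ * m - m) * a), ?_⟩
      show b ⊗ₜ[R] algebraMap R' K' _ = _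
      rw [← map_pow, ← Algebra.smul_def, TensorProduct.smul_tmul']
      rw [TensorProduct.smul_tmul]
      congr 1
      rw [Algebra.smul_def, IsScalarTower.algebraMap_apply R R' K', map_pow (algebraMap R R'), hu₀]
      show algebraMap R' K' ((↑u⁻¹ : R') * (u₀ : R') ^ m * ϖ ^ (e₀ * m - m) * a) = _
      rw [map_mul _ _ a]
      rw [show algebraMap R' K' a = c * algebraMap R' K' (↑u * ϖ ^ m) from hc.symm]
      have hm : m ≤ e₀ * m := Nat.le_mul_of_pos_left m (Nat.pos_of_ne_zero he₀)
      calc algebraMap R' K' ((↑u⁻¹ : R') * (u₀ : R') ^ m * ϖ ^ (e₀ * m - m)) *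
            (c * algebraMap R' K' (↑u * ϖ ^ m))
          = algebraMap R' K' ((↑u⁻¹ * ↑u) * ((u₀ : R') ^ m * (ϖ ^ (e₀ * m - m) * ϖ ^ m))) * c := by
            simp only [map_mul]; ring
        _ = algebraMap R' K' (((u₀ : R') * ϖ ^ e₀) ^ m) * c := by
            rw [Units.inv_mul, one_mul, ← pow_add, Nat.sub_add_cancel hm, mul_pow, ← pow_mul]
  have hprime : ∀ Q : Ideal (B ⊗[R] R'), Q.IsPrime → Q ≠ ⊥ → Q = Ideal.span {q} := by
    intro Q hQ hQ0
    obtain ⟨z, hz, hz0⟩ := Submodule.exists_mem_ne_zero_of_ne_bot hQ0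
    obtain ⟨w, hw⟩ := hF.mul_inv_cancel (fun h => hz0 (hj (h.trans (map_zero j).symm)))
    obtain ⟨N, z', hz'⟩ := hpow w
    have h1 : z * z' = algebraMap R (B ⊗[R] R') π ^ N := hj (by
      rw [map_mul, hz', map_pow, AlgHom.commutes]
      linear_combination (algebraMap R (B ⊗[R] K') π ^ N) * hw)
    have h2 : q ∈ Q := by
      have h3 := hQ.mem_of_pow_mem N (h1 ▸ Q.mul_mem_right z' hz)
      rw [hπq, Ideal.unit_mul_mem_iff_mem _ (u₀.isUnit.map iR)] at h3
      exact hQ.mem_of_pow_mem e₀ h3
    exact (hqmax.eq_of_le hQ.ne_top ((Ideal.span_singleton_le_iff_mem _).mpr h2)).symm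
  haveI : IsPrincipalIdealRing (B ⊗[R] R') :=
    IsPrincipalIdealRing.of_prime_ne_bot fun Q hQ h0 => hprime Q hQ h0 ▸ ⟨⟨q, rfl⟩⟩
  have hne' : Ideal.span {q} ≠ ⊥ := by simpa [Ideal.span_singleton_eq_bot] using hqne
  haveI : IsLocalRing (B ⊗[R] R') := by
    refine IsLocalRing.of_unique_max_ideal ⟨_, hqmax, fun M hM => hprime M hM.isPrime fun h => hne' ?_⟩
    subst h
    exact le_bot_iff.mp (hM.eq_of_le hqmax.ne_top bot_le).ge
  exact { not_a_field' := fun h => hne' (by rw [IsLocalRing.eq_maximalIdeal hqmax, h]) }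

end Groth.L05.ModelGeneric
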