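import Groth.Agent.L05.ModelGeneric.Gamma
import Groth.Agent.L16.Connected.Fibre
import Groth.Agent.L21.Disc.SimplyConn
import Mathlib.AlgebraicGeometry.Morphisms.QuasiSeparated
import Mathlib.AlgebraicGeometry.Geometrically.Integral
import Mathlib.AlgebraicGeometry.Pullbacks
import Mathlib.RingTheory.DiscreteValuationRing.Basic
import Mathlib.RingTheory.Localization.BaseChange
import Mathlib.RingTheory.Ideal.MinimalPrime.Localization

/-!
# The generic points of the special fibre of a proper flat curve
-/

set_option autoImplicit false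
set_option linter.style.haveILetI false

universe u

open CategoryTheory CategoryTheory.Limits AlgebraicGeometry TopologicalSpace Opposite
open Groth.L00.ProperNorm (glob)
open scoped TensorProduct

noncomputable section

namespace Groth.L05.ModelGeneric

variable (R : Type u) [CommRing R] [IsDomain R] [IsDiscreteValuationRing R] {π : R} (hπ : Irreducible π)

include hπ in
theorem isLocalization_away (K : Type u) [Field K] [Algebra R K] [IsFractionRing R K] :
    IsLocalization.Away π K := by
  refine (IsLocalization.iff_of_le_of_exists_dvd (M := Submonoid.powers π) (S := K) (nonZeroDivisors R)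
    (Submonoid.powers_le.mpr (mem_nonZeroDivisors_of_ne_zero hπ.ne_zero)) fun n hn => ?_).mpr inferInstance
  obtain ⟨m, hm⟩ := IsDiscreteValuationRing.associated_pow_irreducible (nonZeroDivisors.ne_zero hn) hπ
  exact ⟨π ^ m, ⟨m, rfl⟩, hm.dvd⟩

section Generic

variable {X : Scheme.{u}} (f : X ⟶ Spec (CommRingCat.of R))
  {XK : Scheme.{u}} (gK : XK ⟶ X) (fK : XK ⟶ Spec (CommRingCat.of (FractionRing R)))
  (hK : IsPullback gK fK f (Spec.map (CommRingCat.ofHom (algebraMap R (FractionRing R)))))
  {Xs : Scheme.{u}} (gs : Xs ⟶ X) (fs : Xs ⟶ Spec (CommRingCat.of (IsLocalRing.ResidueField R)))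
  (hs : IsPullback gs fs f (Spec.map (CommRingCat.ofHom (IsLocalRing.residue R))))
  [IsProper f] [Flat f] [IsAlgClosed (IsLocalRing.ResidueField R)] [IsReduced Xs] [ConnectedSpace Xs]

include hπ hK hs in
theorem surjective_glob_generic : Function.Surjective (glob fK) := by
  haveI := isLocalization_away R hπ (FractionRing R)
  haveI : IsOpenImmersion (Spec.map (CommRingCat.ofHom (algebraMap R (FractionRing R)))) :=
    IsOpenImmersion.of_isLocalization (R := CommRingCat.of R) (S := CommRingCat.of (FractionRing R)) π
  haveI : IsOpenImmersion gK := MorphismProperty.of_isPullback (P := @IsOpenImmersion) hK.flip inferInstance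
  have hO : gK.opensRange = X.basicOpen (rr f ⊤ π) := by
    refine Opens.ext ?_
    have h1 : Set.range gK = f ⁻¹' Set.range (Spec.map (CommRingCat.ofHom (algebraMap R (FractionRing R)))) := by
      rw [← hK.isoPullback_hom_fst, Scheme.Hom.comp_base, TopCat.coe_comp, Set.range_comp,
        show Set.range hK.isoPullback.hom = Set.univ from
          Function.Surjective.range_eq (hK.isoPullback.hom.homeomorph.surjective), Set.image_univ,
        Scheme.Pullback.range_fst]
    show Set.range gK = _
    rw [h1, show Set.range (Spec.map (CommRingCat.ofHom (algebraMap R (FractionRing R)))) =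
        Set.range (PrimeSpectrum.comap (algebraMap R (FractionRing R))) from rfl,
      PrimeSpectrum.localization_away_comap_range (FractionRing R) π, rr_top]
    have h2 : f ⁻¹ᵁ (Spec (CommRingCat.of R)).basicOpen ((Scheme.ΓSpecIso (CommRingCat.of R)).inv π) =
        X.basicOpen (glob f π) := Scheme.preimage_basicOpen f _
    rw [← h2]
    simp only [Scheme.Hom.coe_opensRange, TopologicalSpace.Opens.map_coe]
    exact congrArg _ (congrArg SetLike.coe (basicOpen_eq_of_affine (R := CommRingCat.of R) π).symm)
  haveI : CompactSpace ↥X := QuasiCompact.compactSpace_of_compactSpace f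
  haveI : QuasiSeparatedSpace ↥X := quasiSeparatedSpace_of_quasiSeparated f
  haveI := isLocalization_basicOpen_of_qcqs (X := X) (U := ⊤) isCompact_univ isQuasiSeparated_univ (rr f ⊤ π)
  intro z
  have hle : gK ''ᵁ ⊤ = X.basicOpen (rr f ⊤ π) := by rw [Scheme.Hom.image_top_eq_opensRange, hO]
  let res : Γ(X, X.basicOpen (rr f ⊤ π)) ⟶ Γ(XK, ⊤) :=
    gK.appLE (X.basicOpen (rr f ⊤ π)) ⊤ (by rw [← hle, Scheme.Hom.preimage_image_eq])
  obtain ⟨y, rfl⟩ : ∃ y, res y = z := by
    have hb : ∀ (V : X.Opens) (hV : gK ''ᵁ ⊤ = V) (e), Function.Surjective (gK.appLE V ⊤ e) := by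
      rintro _ rfl e
      rw [← Scheme.Hom.appIso_hom']
      exact (gK.appIso ⊤).commRingCatIsoToRingEquiv.surjective
    exact hb _ hle _ z
  have hcomm : ∀ r : R, res (X.presheaf.map (homOfLE le_top).op (glob f r)) =
      glob fK (algebraMap R (FractionRing R) r) := fun r => by
    have h1 := ConcreteCategory.congr_hom (congrArg (fun t => (Scheme.ΓSpecIso (CommRingCat.of R)).inv ≫ Scheme.Hom.appTop t) hK.w) r
    simp only [Scheme.Hom.comp_appTop, ← Category.assoc, ← Scheme.ΓSpecIso_inv_naturality] at h1
    refine Eq.trans ?_ h1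
    show (X.presheaf.map (homOfLE le_top).op ≫ res) _ = _
    rw [Scheme.Hom.map_appLE,
      show gK.appLE ⊤ ⊤ _ = gK.appTop from (Scheme.Hom.app_eq_appLE gK).symm]
    rfl
  obtain ⟨⟨x, ⟨_, n, rfl⟩⟩, hy⟩ := IsLocalization.surj (Submonoid.powers (rr f ⊤ π)) y
  obtain ⟨r, rfl⟩ := surjective_glob R π hπ.ne_zero hπ.maximalIdeal_eq f gs fs hs x
  have h3 := congrArg res hy
  simp only [RingHom.algebraMap_toAlgebra, map_mul, map_pow] at h3
  have hrr : ∀ r, rr f ⊤ r = glob f r := rr_top f
  simp only [hrr] at h3
  erw [hcomm, hcomm] at h3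
  refine ⟨algebraMap R (FractionRing R) r / algebraMap R (FractionRing R) π ^ n, ?_⟩
  have hu : (algebraMap R (FractionRing R) π) ≠ 0 :=
    (map_ne_zero_iff _ (IsFractionRing.injective R (FractionRing R))).mpr hπ.ne_zero
  refine (((isUnit_iff_ne_zero.mpr hu).map (glob fK)).pow n).mul_left_inj.mp ?_
  rw [h3, ← map_pow (glob fK), ← map_mul (glob fK), div_mul_cancel₀ _ (pow_ne_zero _ hu)]

include hπ hK hs in
theorem geometricallyIntegral_generic [Smooth fK] [ConnectedSpace XK] : GeometricallyIntegral fK := by
  haveI : IsProper fK := MorphismProperty.of_isPullback (P := @IsProper) hK inferInstance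
  haveI : GeometricallyConnected fK := by
    refine Groth.L16.Connected.geometricallyConnected fK fun U => ?_
    rcases isEmpty_or_nonempty (U : Scheme.{u}) with hU | hU
    · have hU' : U = ⊥ := by
        ext y
        exact ⟨fun hy => (hU.false ⟨y, hy⟩).elim, fun hy => hy.elim⟩
      subst hU'
      haveI : Subsingleton Γ(XK, fK ⁻¹ᵁ ⊥) := inferInstanceAs (Subsingleton Γ(XK, ⊥))
      rw [ConcreteCategory.isIso_iff_bijective]
      exact ⟨fun a b _ => Subsingleton.elim _ _, fun b => ⟨0, Subsingleton.elim _ _⟩⟩
    · have hU' : U = ⊤ := by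
        obtain ⟨⟨y, hy⟩⟩ := hU
        ext z
        simp only [Opens.coe_top, Set.mem_univ, iff_true]
        obtain rfl : z = y := Subsingleton.elim (α := PrimeSpectrum (FractionRing R)) _ _
        exact hy
      subst hU'
      haveI : Nontrivial Γ(XK, ⊤) := by
        obtain ⟨z⟩ := ‹ConnectedSpace XK›.toNonempty
        exact (XK.presheaf.germ ⊤ z trivial).hom.domain_nontrivial
      rw [ConcreteCategory.isIso_iff_bijective]
      constructor
      · intro a b hab
        obtain ⟨a, rfl⟩ := (Scheme.ΓSpecIso (CommRingCat.of (FractionRing R))).symm.commRingCatIsoToRingEquiv.surjective a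
        obtain ⟨b, rfl⟩ := (Scheme.ΓSpecIso (CommRingCat.of (FractionRing R))).symm.commRingCatIsoToRingEquiv.surjective b
        exact congrArg _ ((glob fK).injective hab)
      · intro z
        obtain ⟨c, hc⟩ := surjective_glob_generic R hπ f gK fK hK gs fs hs z
        exact ⟨(Scheme.ΓSpecIso (CommRingCat.of (FractionRing R))).inv c, hc⟩
  exact Groth.L21.Disc.geometricallyIntegral_of_smooth fK

variable (L : Type u) [Field L] [Algebra R L] [Algebra (FractionRing R) L] [IsScalarTower R (FractionRing R) L]

include hK in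
theorem isDomain_tensor_sections [GeometricallyIntegral fK] {U : X.Opens} (hU : IsAffineOpen U)
    [Nontrivial Γ(X, U)] :
    letI := (rr f U).toAlgebra
    IsDomain (Γ(X, U) ⊗[R] L) := by
  letI := (rr f U).toAlgebra
  haveI : Module.Flat R Γ(X, U) := flat_rr f hU
  haveI : Nontrivial (Γ(X, U) ⊗[R] L) := by
    have hinjR : Function.Injective (algebraMap R L) := by
      rw [IsScalarTower.algebraMap_eq R (FractionRing R) L]
      exact (algebraMap (FractionRing R) L).injective.comp (IsFractionRing.injective R (FractionRing R))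
    exact (Algebra.TensorProduct.includeLeft_injective (S := R) (A := Γ(X, U)) (B := L) hinjR).nontrivial
  let i := Spec.map (CommRingCat.ofHom (algebraMap R Γ(X, U)))
  let sL := Spec.map (CommRingCat.ofHom (algebraMap R L))
  let sKL := Spec.map (CommRingCat.ofHom (algebraMap (FractionRing R) L))
  let Y := pullback fK sKL
  haveI : IsIntegral Y :=
    (GeometricallyIntegral.geometrically_isIntegral (f := fK)) sKL _ _ (IsPullback.of_hasPullback fK sKL)
  have hY : IsPullback (pullback.fst fK sKL ≫ gK) (pullback.snd fK sKL) f sL := by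
    have := (IsPullback.of_hasPullback fK sKL).paste_horiz hK
    rwa [show sKL ≫ Spec.map (CommRingCat.ofHom (algebraMap R (FractionRing R))) = sL by
      simp only [sKL, sL, ← Spec.map_comp]
      rw [IsScalarTower.algebraMap_eq R (FractionRing R) L]
      rfl] at this
  have hi : hU.fromSpec ≫ f = i := fromSpec_structure f hU
  let m : pullback i sL ⟶ Y := hY.lift (pullback.fst i sL ≫ hU.fromSpec) (pullback.snd i sL)
    (by rw [Category.assoc, hi, pullback.condition])
  have hm : IsPullback (pullback.fst i sL) m hU.fromSpec (pullback.fst fK sKL ≫ gK) := by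
    refine IsPullback.of_bot ?_ (hY.lift_fst _ _ _).symm hY.flip.flip
    rw [hY.lift_snd, hi]
    exact IsPullback.of_hasPullback i sL
  haveI : IsOpenImmersion m := MorphismProperty.of_isPullback (P := @IsOpenImmersion) hm inferInstance
  let e := pullbackSpecIso R Γ(X, U) L
  haveI : Nonempty (pullback i sL : Scheme.{u}) := by
    obtain ⟨z⟩ : Nonempty (PrimeSpectrum (Γ(X, U) ⊗[R] L)) := inferInstance
    exact ⟨e.inv z⟩
  haveI : IsIntegral (pullback i sL) := isIntegral_of_isOpenImmersion m
  haveI : IsIntegral (Spec (CommRingCat.of (Γ(X, U) ⊗[R] L))) := by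
    haveI : Nonempty (Spec (CommRingCat.of (Γ(X, U) ⊗[R] L))) := ⟨e.hom ‹Nonempty (pullback i sL : Scheme.{u})›.some⟩
    exact isIntegral_of_isOpenImmersion e.inv
  exact affine_isIntegral_iff (CommRingCat.of (Γ(X, U) ⊗[R] L)) |>.mp inferInstance

end Generic

end Groth.L05.ModelGeneric
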