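import Groth.Agent.L05.ModelGeneric.Main
import Mathlib.RingTheory.TensorProduct.Maps
import Mathlib.RingTheory.IntegralClosure.IsIntegralClosure.Basic
import Mathlib.RingTheory.Algebraic.Integral

/-!
# Local rings at generic points of the special fibre
-/

set_option autoImplicit false
set_option linter.style.haveILetI false

universe u

open CategoryTheory CategoryTheory.Limits AlgebraicGeometry TopologicalSpace Opposite
open Groth.L00.ProperNorm (glob)
open scoped TensorProduct

noncomputable section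

namespace Groth.L05.ModelGeneric

variable (R : Type u) [CommRing R] [IsDomain R] [IsDiscreteValuationRing R] {π : R} (hπ : Irreducible π)
  {X : Scheme.{u}} (f : X ⟶ Spec (CommRingCat.of R))
  {Xs : Scheme.{u}} (gs : Xs ⟶ X) (fs : Xs ⟶ Spec (CommRingCat.of (IsLocalRing.ResidueField R)))
  (hs : IsPullback gs fs f (Spec.map (CommRingCat.ofHom (IsLocalRing.residue R))))
  (ξ : Xs) {B : Type u} [CommRing B] [IsDomain B] [IsDiscreteValuationRing B] [Algebra R B]
  (e : X.presheaf.stalk (gs.base ξ) ≅ CommRingCat.of B)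
  (he : e.hom.hom.comp ((X.presheaf.germ ⊤ (gs.base ξ) trivial).hom.comp (glob f)) = algebraMap R B)

include he in
theorem exists_chart : ∃ (U : X.Opens) (_ : IsAffineOpen U) (ψ : Γ(X, U) →+* B) (p : Ideal Γ(X, U)) (_ : p.IsPrime),
    ψ.comp (rr f U) = algebraMap R B ∧ (letI := ψ.toAlgebra; IsLocalization.AtPrime B p) ∧
      ∃ hx : gs.base ξ ∈ U, ∀ a, gs.app U a = 0 → ψ a ∈ IsLocalRing.maximalIdeal B := by
  obtain ⟨U, hU, hxU, -⟩ := exists_isAffineOpen_mem_and_subset (X := X) (x := gs.base ξ) (U := ⊤) trivial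
  let ψ : Γ(X, U) →+* B := e.hom.hom.comp (X.presheaf.germ U (gs.base ξ) hxU).hom
  refine ⟨U, hU, ψ, (hU.primeIdealOf ⟨gs.base ξ, hxU⟩).asIdeal, inferInstance, ?_, ?_, hxU, fun a ha => ?_⟩
  · rw [← he]
    refine RingHom.ext fun r => congrArg e.hom ?_
    exact TopCat.Presheaf.germ_res_apply X.presheaf _ _ hxU (glob f r)
  · letI := TopCat.Presheaf.algebra_section_stalk X.presheaf (⟨gs.base ξ, hxU⟩ : U)
    haveI := hU.isLocalization_stalk ⟨gs.base ξ, hxU⟩
    letI := ψ.toAlgebra
    exact IsLocalization.isLocalization_of_algEquiv _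
      (AlgEquiv.ofRingEquiv (f := e.commRingCatIsoToRingEquiv) fun _ => rfl : X.presheaf.stalk (gs.base ξ) ≃ₐ[Γ(X, U)] B)
  · rw [IsLocalRing.mem_maximalIdeal]
    intro hu
    have h1 : IsUnit (X.presheaf.germ U (gs.base ξ) hxU a) := by
      have h := hu.map e.inv.hom
      simpa [ψ] using h
    have h2 := h1.map (gs.stalkMap ξ).hom
    rw [Scheme.Hom.germ_stalkMap_apply, ha, map_zero] at h2
    exact not_isUnit_zero h2

include hs in
theorem app_rr_eq_zero (U : X.Opens) (hπm : π ∈ IsLocalRing.maximalIdeal R) :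
    gs.app U (rr f U π) = 0 := by
  have h1 := ConcreteCategory.congr_hom (congrArg (fun t => (Scheme.ΓSpecIso (CommRingCat.of R)).inv ≫ Scheme.Hom.appTop t) hs.w) π
  simp only [Scheme.Hom.comp_appTop, ← Category.assoc, ← Scheme.ΓSpecIso_inv_naturality] at h1
  have h2 : gs.appTop (glob f π) = 0 := by
    refine Eq.trans (show _ = _ from h1) ?_
    show fs.appTop ((Scheme.ΓSpecIso _).inv (IsLocalRing.residue R π)) = 0
    rw [(IsLocalRing.residue_eq_zero_iff π).mpr hπm, map_zero, map_zero]
  show gs.app U (X.presheaf.map (homOfLE le_top).op (glob f π)) = 0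
  rw [← ConcreteCategory.comp_apply, gs.naturality, ConcreteCategory.comp_apply]
  rw [show gs.app ⊤ (glob f π) = 0 from h2, map_zero]

variable [Flat f]

include hπ hs he in
/-- The base uniformizer is a uniformizer at the generic point. -/
theorem map_maximalIdeal [IsReduced Xs] :
    (IsLocalRing.maximalIdeal R).map (algebraMap R B) = IsLocalRing.maximalIdeal B ∧
      algebraMap R B π ≠ 0 := by
  obtain ⟨U, hU, ψ, p, _, hψ, hloc, hx, hnu⟩ := exists_chart R f gs ξ e he
  letI := ψ.toAlgebra
  haveI := hloc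
  let I : Ideal Γ(X, U) := Ideal.span {rr f U π}
  have hπψ : algebraMap R B π = ψ (rr f U π) := by rw [← hψ]; rfl
  have hker : ∀ a, a ∈ I ↔ gs.app U a = 0 := fun a =>
    ⟨fun h => by
      obtain ⟨b, rfl⟩ := Ideal.mem_span_singleton'.mp h
      rw [map_mul, app_rr_eq_zero R f gs fs hs U (hπ.maximalIdeal_eq ▸ Ideal.mem_span_singleton_self π), mul_zero],
      mem_span_of_app_eq_zero R π hπ.maximalIdeal_eq f gs fs hs hU a⟩
  have hm : algebraMap R B π ∈ IsLocalRing.maximalIdeal B :=
    hπψ ▸ hnu _ ((hker _).mp (Ideal.mem_span_singleton_self _))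
  have hne : algebraMap R B π ≠ 0 := fun h => by
    rw [hπψ, ← map_zero ψ] at h
    obtain ⟨⟨c, hc⟩, hcz⟩ := (IsLocalization.eq_iff_exists p.primeCompl B).mp
      (show algebraMap Γ(X, U) B (rr f U π) = algebraMap Γ(X, U) B 0 from h)
    simp only [mul_zero] at hcz
    have : c = 0 := rr_mul_injective f π hπ.ne_zero hU (by rw [mul_zero, mul_comm]; exact hcz)
    exact hc (this ▸ p.zero_mem)
  refine ⟨le_antisymm ?_ ?_, hne⟩
  · rw [hπ.maximalIdeal_eq, Ideal.map_span, Set.image_singleton, Ideal.span_singleton_le_iff_mem]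
    exact hm
  obtain ⟨ϖ, hϖ⟩ := IsDiscreteValuationRing.exists_irreducible B
  obtain ⟨n, hn⟩ := IsDiscreteValuationRing.associated_pow_irreducible hne hϖ
  obtain ⟨⟨x, t⟩, hxt⟩ := IsLocalization.surj p.primeCompl ϖ
  have h1 : ψ (x ^ n) ∈ Ideal.span {algebraMap R B π} := by
    rw [map_pow, show ψ x = ϖ * algebraMap Γ(X, U) B t from hxt.symm, mul_pow]
    exact Ideal.mul_mem_right _ _ (Ideal.mem_span_singleton.mpr hn.dvd)
  obtain ⟨b, hb⟩ := Ideal.mem_span_singleton'.mp h1
  obtain ⟨⟨a, s⟩, hbs⟩ := IsLocalization.surj p.primeCompl b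
  have h3 : algebraMap Γ(X, U) B (x ^ n * s) = algebraMap Γ(X, U) B (a * rr f U π) := by
    show ψ _ = ψ _
    rw [map_mul, map_mul, ← hb, ← hπψ, show ψ a = b * ψ s from hbs.symm]
    ring
  obtain ⟨⟨c, hc⟩, hcz⟩ := (IsLocalization.eq_iff_exists p.primeCompl B).mp h3
  have h4 : gs.app U (c * s * x) = 0 := by
    refine IsReduced.eq_zero _ ⟨n + 1, ?_⟩
    rw [← map_pow]
    refine (hker _).mp (Ideal.mem_span_singleton'.mpr ⟨(c * s : Γ(X, U)) ^ n * x * (c * a), ?_⟩)
    simp only [pow_succ, mul_pow] at hcz ⊢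
    linear_combination ((c : Γ(X, U)) ^ n * (s : Γ(X, U)) ^ n * x) * -hcz
  have h5 : ψ ((c : Γ(X, U)) * s * x) ∈ Ideal.span {algebraMap R B π} := by
    obtain ⟨b', hb'⟩ := Ideal.mem_span_singleton'.mp ((hker _).mpr h4)
    rw [hπψ, ← hb', map_mul]
    exact Ideal.mem_span_singleton'.mpr ⟨_, rfl⟩
  rw [hϖ.maximalIdeal_eq, Ideal.span_singleton_le_iff_mem, hπ.maximalIdeal_eq, Ideal.map_span,
    Set.image_singleton]
  rw [map_mul, map_mul, show ψ x = ϖ * ψ t from hxt.symm] at h5
  have hu : ∀ z : p.primeCompl, IsUnit (ψ z) := fun z => IsLocalization.map_units B z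
  rw [mul_comm ϖ, ← mul_assoc] at h5
  exact (Ideal.unit_mul_mem_iff_mem _ (((hu ⟨c, hc⟩).mul (hu s)).mul (hu t))).mp h5

variable {XK : Scheme.{u}} (gK : XK ⟶ X) (fK : XK ⟶ Spec (CommRingCat.of (FractionRing R)))
  (hK : IsPullback gK fK f (Spec.map (CommRingCat.ofHom (algebraMap R (FractionRing R)))))
  (L : Type u) [Field L] [Algebra R L] [Algebra (FractionRing R) L] [IsScalarTower R (FractionRing R) L]

include hπ hK hs he in
theorem isDomain_tensor [IsProper f] [IsAlgClosed (IsLocalRing.ResidueField R)] [IsReduced Xs] [ConnectedSpace Xs]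
    [Smooth fK] [ConnectedSpace XK] : IsDomain (B ⊗[R] L) := by
  haveI := geometricallyIntegral_generic R hπ f gK fK hK gs fs hs
  obtain ⟨U, hU, ψ, p, _, hψ, hloc, hx, -⟩ := exists_chart R f gs ξ e he
  haveI : Nontrivial Γ(X, U) := (X.presheaf.germ U _ hx).hom.domain_nontrivial
  letI : Algebra R Γ(X, U) := (rr f U).toAlgebra
  haveI : IsDomain (Γ(X, U) ⊗[R] L) := isDomain_tensor_sections R f gK fK hK L hU
  haveI : Module.Flat R Γ(X, U) := flat_rr f hU
  letI := ψ.toAlgebra
  haveI := hloc
  haveI : IsScalarTower R Γ(X, U) B := IsScalarTower.of_algebraMap_eq' hψ.symm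
  let m : Γ(X, U) ⊗[R] L →ₐ[R] B ⊗[R] L :=
    Algebra.TensorProduct.map (IsScalarTower.toAlgHom R Γ(X, U) B) (AlgHom.id R L)
  letI : Algebra (Γ(X, U) ⊗[R] L) (B ⊗[R] L) := m.toRingHom.toAlgebra
  haveI : IsScalarTower Γ(X, U) (Γ(X, U) ⊗[R] L) (B ⊗[R] L) := IsScalarTower.of_algebraMap_eq fun a => by
    show _ = m (a ⊗ₜ[R] (1 : L))
    simp [m, Algebra.TensorProduct.algebraMap_apply]
  haveI : IsLocalization (Algebra.algebraMapSubmonoid (Γ(X, U) ⊗[R] L) p.primeCompl) (B ⊗[R] L) :=
    IsLocalization.tensorProduct_tensorProduct R L p.primeCompl B (RingHom.ext fun l => by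
      show m (1 ⊗ₜ l) = _
      simp [m])
  have hinjR : Function.Injective (algebraMap R L) := by
    rw [IsScalarTower.algebraMap_eq R (FractionRing R) L]
    exact (algebraMap (FractionRing R) L).injective.comp (IsFractionRing.injective R (FractionRing R))
  refine IsLocalization.isDomain_of_le_nonZeroDivisors (B ⊗[R] L)
    (M := Algebra.algebraMapSubmonoid (Γ(X, U) ⊗[R] L) p.primeCompl) ?_
  rintro _ ⟨c, hc, rfl⟩
  refine mem_nonZeroDivisors_of_ne_zero fun h => hc ?_
  have : c = 0 := Algebra.TensorProduct.includeLeft_injective (S := R) (A := Γ(X, U)) (B := L) hinjR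
    (h.trans (map_zero _).symm)
  exact this ▸ p.zero_mem

/-- The tensor product with an algebraic extension of the fraction field is a field. -/
theorem isField_tensor (hπ' : Irreducible π) (hπB : algebraMap R B π ∈ IsLocalRing.maximalIdeal B) (hne : algebraMap R B π ≠ 0)
    [Algebra.IsAlgebraic (FractionRing R) L] (hdom : IsDomain (B ⊗[R] L)) : IsField (B ⊗[R] L) := by
  let K := FractionRing R
  have hinjL : Function.Injective (algebraMap R L) := by
    rw [IsScalarTower.algebraMap_eq R K L]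
    exact (algebraMap K L).injective.comp (IsFractionRing.injective R K)
  haveI : Nontrivial (B ⊗[R] L) := inferInstance
  let iL : L →ₐ[R] B ⊗[R] L := Algebra.TensorProduct.includeRight
  let ιK : K →+* B ⊗[R] L := iL.toRingHom.comp (algebraMap K L)
  have hπu : IsUnit (algebraMap B (B ⊗[R] L) (algebraMap R B π)) := by
    have : algebraMap B (B ⊗[R] L) (algebraMap R B π) = ιK (algebraMap R K π) := by
      rw [← IsScalarTower.algebraMap_apply R B (B ⊗[R] L)]
      show _ = iL (algebraMap K L (algebraMap R K π))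
      rw [← IsScalarTower.algebraMap_apply R K L, AlgHom.commutes]
    rw [this]
    refine (isUnit_iff_ne_zero.mpr fun h => hne ?_).map ιK
    rw [(IsFractionRing.injective R K) (h.trans (map_zero _).symm), map_zero]
  obtain ⟨ϖ, hϖ⟩ := IsDiscreteValuationRing.exists_irreducible B
  have hBu : ∀ b : B, b ≠ 0 → IsUnit (algebraMap B (B ⊗[R] L) b) := fun b hb => by
    have hϖu : IsUnit (algebraMap B (B ⊗[R] L) ϖ) := by
      obtain ⟨d, hd⟩ := Ideal.mem_span_singleton'.mp (hϖ.maximalIdeal_eq ▸ hπB)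
      exact isUnit_of_mul_isUnit_right (x := algebraMap B _ d) (by rw [← map_mul, hd]; exact hπu)
    obtain ⟨n, hn⟩ := IsDiscreteValuationRing.associated_pow_irreducible hb hϖ
    obtain ⟨u, hu⟩ := hn.symm
    rw [← hu, map_mul, map_pow]
    exact (hϖu.pow n).mul (u.isUnit.map _)
  have hinjB : Function.Injective (algebraMap B (B ⊗[R] L)) := fun a b h => by
    by_contra hne'
    exact (hBu (a - b) (sub_ne_zero.mpr hne')).ne_zero (by rw [map_sub, h, sub_self])
  let F := FractionRing B
  let j : F →+* B ⊗[R] L := IsLocalization.lift (M := nonZeroDivisors B) (g := algebraMap B (B ⊗[R] L))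
    fun b => hBu b (nonZeroDivisors.ne_zero b.2)
  letI := j.toAlgebra
  haveI : IsScalarTower B F (B ⊗[R] L) :=
    IsScalarTower.of_algebraMap_eq fun b => (IsLocalization.lift_eq _ b).symm
  haveI : Algebra.IsIntegral F (B ⊗[R] L) := ⟨fun z => by
    induction z using TensorProduct.induction_on with
    | zero => exact isIntegral_zero
    | add x y hx hy => exact hx.add hy
    | tmul b l =>
      rw [show b ⊗ₜ[R] l = algebraMap B (B ⊗[R] L) b * iL l by simp [iL]]
      refine IsIntegral.mul ?_ ?_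
      · rw [IsScalarTower.algebraMap_apply B F (B ⊗[R] L)]
        exact isIntegral_algebraMap
      · obtain ⟨P, hP, hPl⟩ := (Algebra.IsAlgebraic.isAlgebraic (R := K) l).isIntegral
        let g : K →+* F := IsFractionRing.lift (A := R) (g := (algebraMap B F).comp (algebraMap R B)) <| by
          refine (injective_iff_map_eq_zero _).mpr fun r hr => ?_
          have hr' : algebraMap R B r = 0 := IsFractionRing.injective B F (hr.trans (map_zero _).symm)
          by_contra hr0
          obtain ⟨n, u, rfl⟩ := IsDiscreteValuationRing.eq_unit_mul_pow_irreducible hr0 hπ'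
          rw [map_mul, map_pow] at hr'
          exact (mul_ne_zero (u.isUnit.map (algebraMap R B)).ne_zero (pow_ne_zero _ hne)) hr'
        refine ⟨P.map g, hP.map _, ?_⟩
        have hgι : (algebraMap F (B ⊗[R] L)).comp g = ιK := by
          refine IsLocalization.ringHom_ext (nonZeroDivisors R) (RingHom.ext fun r => ?_)
          show algebraMap F _ (g (algebraMap R K r)) = iL (algebraMap K L (algebraMap R K r))
          rw [IsFractionRing.lift_algebraMap, RingHom.comp_apply, ← IsScalarTower.algebraMap_apply B F,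
            ← IsScalarTower.algebraMap_apply R B (B ⊗[R] L), ← IsScalarTower.algebraMap_apply R K L, AlgHom.commutes]
        rw [Polynomial.eval₂_map, hgι]
        show Polynomial.eval₂ (iL.toRingHom.comp (algebraMap K L)) (iL.toRingHom l) P = 0
        rw [← Polynomial.hom_eval₂, hPl, map_zero]⟩
  exact isField_of_isIntegral_of_isField' (R := F) (Field.toIsField F)

end Groth.L05.ModelGeneric
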